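import Cfsg.Agent.Lib.Local.AutomizerQ.Main
import Cfsg.Agent.Lib.FusionSys.TerminatingSeries

/-!
# Moving a prime divisor of an automizer to a normal subgroup of a Sylow subgroup
-/

set_option autoImplicit false
set_option linter.unusedSectionVars false

namespace Cfsg.Lib.Local.AutQ

open Subgroup Cfsg.Lib

universe u

variable {p q : ℕ} [hp : Fact p.Prime] [hq : Fact q.Prime]

theorem isPSolvable_of_coprime {X : Type u} [Group X] (h : (Nat.card X).Coprime p) :
    Cfsg.IsPSolvable p X := by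
  refine ⟨1, fun i => if i = 0 then ⊥ else ⊤, by simp, by simp, ?_, ?_, ?_⟩
  · intro i j hij
    by_cases hi : i = 0
    · simp [hi]
    · have hj : j ≠ 0 := fun h => hi (Fin.le_zero_iff.1 (h ▸ hij))
      simp [hi, hj]
  · intro i
    by_cases hi : i = 0 <;> simp only [hi, if_true, if_false] <;> infer_instance
  · intro i
    fin_cases i
    right
    simpa using h

theorem isPSolvable_of_normal_sylow {X : Type u} [Group X] [Finite X] (T : Sylow p X)
    [(T : Subgroup X).Normal] : Cfsg.IsPSolvable p X := by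
  refine Cfsg.Lib.FusionSys.isPSolvable_ext _ X (T : Subgroup X) rfl
    (Core.isPSolvable_of_isPGroup T.2) (isPSolvable_of_coprime ?_)
  exact (hp.out.coprime_iff_not_dvd.2 T.not_dvd_index).symm

variable {G : Type u} [Group G] [Finite G]

/-- `q` divides the order of the automizer. -/
def Moved (q : ℕ) (H : Subgroup G) : Prop :=
  ∃ y ∈ normalizer (H : Set G), IsQEl q y ∧ y ∉ centralizer (H : Set G)

theorem moved_of_dvd {H : Subgroup G}
    (h : q ∣ ((centralizer (H : Set G)).subgroupOf (normalizer (H : Set G))).index) : Moved q H := by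
  set N := normalizer (H : Set G)
  set C := (centralizer (H : Set G)).subgroupOf N
  haveI : C.Normal := inferInstance
  obtain ⟨b, hb⟩ := exists_prime_orderOf_dvd_card' (G := ↥N ⧸ C) q h
  obtain ⟨x, rfl⟩ := QuotientGroup.mk'_surjective C b
  obtain ⟨a, ⟨k, hk⟩, hfa⟩ := exists_q_part (q := q) (QuotientGroup.mk' C) (x := x)
    ⟨1, by rw [pow_one, ← hb, pow_orderOf_eq_one]⟩
  refine ⟨((x ^ a : ↥N) : G), (x ^ a).2, ⟨k, by rw [← SubmonoidClass.coe_pow, hk, OneMemClass.coe_one]⟩,
    fun hc => ?_⟩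
  have h1 : QuotientGroup.mk' C (x ^ a) = 1 := (QuotientGroup.eq_one_iff _).2 hc
  rw [hfa] at h1
  rw [h1, orderOf_one] at hb
  exact hq.out.ne_one hb.symm

theorem dvd_of_moved {H : Subgroup G} (h : Moved q H) :
    q ∣ ((centralizer (H : Set G)).subgroupOf (normalizer (H : Set G))).index := by
  obtain ⟨y, hy, ⟨k, hk⟩, hyc⟩ := h
  set N := normalizer (H : Set G)
  set C := (centralizer (H : Set G)).subgroupOf N
  haveI : C.Normal := inferInstance
  set b := QuotientGroup.mk' C ⟨y, hy⟩
  have hb : b ≠ 1 := fun h1 => hyc ((QuotientGroup.eq_one_iff (⟨y, hy⟩ : ↥N)).1 h1)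
  obtain ⟨c, -, hc⟩ := (Nat.dvd_prime_pow hq.out).1 (orderOf_dvd_of_pow_eq_one (x := b) (n := q ^ k) (by
    show QuotientGroup.mk' C ⟨y, hy⟩ ^ q ^ k = 1
    rw [← map_pow, show (⟨y, hy⟩ : ↥N) ^ q ^ k = 1 from Subtype.ext (by simpa using hk), map_one]))
  have hc0 : c ≠ 0 := fun h0 => hb (orderOf_eq_one_iff.1 (by rw [hc, h0, pow_zero]))
  exact (dvd_pow_self q hc0).trans (hc ▸ orderOf_dvd_natCard b)

theorem moved_map {H : Subgroup G} (h : Moved q H) (g : G) :
    Moved q (H.map (MulAut.conj g).toMonoidHom) := by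
  obtain ⟨y, hy, ⟨k, hk⟩, hyc⟩ := h
  refine ⟨MulAut.conj g y, le_normalizer_map (MulAut.conj g).toMonoidHom ⟨y, hy, rfl⟩,
    ⟨k, by rw [← map_pow, hk, map_one]⟩, fun hc => hyc (mem_centralizer_iff.2 fun a ha => ?_)⟩
  refine (MulAut.conj g).injective ?_
  rw [map_mul, map_mul]
  exact mem_centralizer_iff.1 hc _ ⟨a, ha, rfl⟩

theorem exists_normal_moved (hpq : p ≠ q) (h23 : ¬ ((p = 2 ∧ q = 3) ∨ (p = 3 ∧ q = 2)))
    (hsol : ∀ H : Subgroup G, IsPGroup p ↥H → Cfsg.IsPSolvable p
      (↥(normalizer (H : Set G)) ⧸ (centralizer (H : Set G)).subgroupOf (normalizer (H : Set G))))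
    {H₀ : Subgroup G} (hH₀ : IsPGroup p H₀) (h₀ : Moved q H₀) (P : Sylow p G) :
    ∃ K : Subgroup G, K ≤ (P : Subgroup G) ∧ (P : Subgroup G) ≤ normalizer (K : Set G) ∧ Moved q K := by
  classical
  let f : Subgroup G → ℕ := fun K => (Nat.card (normalizer (K : Set G))).factorization p
  obtain ⟨H, ⟨hH, hHm⟩, hmax⟩ := Set.exists_max_image {K : Subgroup G | IsPGroup p K ∧ Moved q K} f
    (Set.toFinite _) ⟨H₀, hH₀, h₀⟩
  obtain ⟨y, hy, hyq, hyc⟩ := hHm
  set N := normalizer (H : Set G) with hN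
  set C := (centralizer (H : Set G)).subgroupOf N with hC
  haveI : C.Normal := inferInstance
  obtain ⟨SN⟩ := (inferInstance : Nonempty (Sylow p ↥N))
  set S : Subgroup G := (SN : Subgroup ↥N).map N.subtype with hS
  have hSp : IsPGroup p S := SN.2.map _
  have hScard : Nat.card S = p ^ f H := by
    rw [hS, card_map_of_injective N.subtype_injective, SN.card_eq_multiplicity]
  have hHN : H ≤ N := le_normalizer
  have hHS : H ≤ S := by
    have h1 : H.subgroupOf N ≤ (SN : Subgroup ↥N) :=
      (Core.le_pCore (N := H.subgroupOf N) hH.comap_subtype).trans (Core.pCore_le_sylow SN)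
    rw [hS, ← map_subgroupOf_eq_of_le hHN]
    exact map_mono h1
  have hSN : S ≤ N := map_subtype_le _
  obtain ⟨P', hP'⟩ := hSp.exists_le_sylow
  by_cases hfull : S = (P' : Subgroup G)
  · obtain ⟨g, hg⟩ := MulAction.exists_smul_eq G P' P
    have hPe : (P : Subgroup G) = S.map (MulAut.conj g).toMonoidHom := by
      rw [hfull, ← hg]; rfl
    refine ⟨H.map (MulAut.conj g).toMonoidHom, hPe ▸ map_mono hHS, ?_, moved_map ⟨y, hy, hyq, hyc⟩ g⟩
    rw [hPe]
    exact (map_mono hSN).trans (le_normalizer_map _)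
  exfalso
  have hlt : S < (P' : Subgroup G) := lt_of_le_of_ne hP' hfull
  haveI : Group.IsNilpotent (P' : Subgroup G) := P'.2.isNilpotent
  have hnc : S.subgroupOf (P' : Subgroup G) < normalizer (S.subgroupOf (P' : Subgroup G) : Set (P' : Subgroup G)) := by
    refine Group.normalizerCondition_of_isNilpotent (G := (P' : Subgroup G)) _ (lt_top_iff_ne_top.2 fun h => hfull ?_)
    exact le_antisymm hP' (subgroupOf_eq_top.1 h)
  have hbig : ∀ K : Subgroup G, IsPGroup p K → Moved q K →
      normalizer (S : Set G) ≤ normalizer (K : Set G) → False := by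
    intro K hKp hKm hNK
    set R := (normalizer (S.subgroupOf (P' : Subgroup G) : Set (P' : Subgroup G))).map (P' : Subgroup G).subtype with hR
    have hRN : R ≤ normalizer (S : Set G) := by
      refine (le_normalizer_map _).trans ?_
      rw [map_subgroupOf_eq_of_le hP']
    have hRp : IsPGroup p R := P'.2.to_le (map_subtype_le _)
    have hcard : Nat.card S < Nat.card R := by
      have hlt' : S < R := by
        have := Subgroup.map_lt_map_iff_of_injective (P' : Subgroup G).subtype_injective |>.2 hnc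
        rwa [map_subgroupOf_eq_of_le hP'] at this
      refine lt_of_le_of_ne (card_le_of_le hlt'.le) fun h => hlt'.ne ?_
      exact eq_of_le_of_card_ge hlt'.le h.ge
    obtain ⟨j, hj⟩ := IsPGroup.iff_card.1 hRp
    have hdvd := card_dvd_of_le (hRN.trans hNK)
    rw [hj, hp.out.pow_dvd_iff_le_factorization Nat.card_pos.ne'] at hdvd
    have hle := hdvd.trans (hmax K ⟨hKp, hKm⟩)
    rw [hj, hScard] at hcard
    exact absurd (Nat.pow_le_pow_right hp.out.pos hle) (not_le.2 hcard)
  -- the p-solvable section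
  obtain ⟨TC, hTC⟩ := exists_sylow_inf SN C
  set T := (SN : Subgroup ↥N) ⊓ C with hT
  set X := normalizer (T : Set ↥N) with hX
  have hSX : (SN : Subgroup ↥N) ≤ X := fun s hs => mem_normalizer_fintype fun t ht =>
    ⟨(SN : Subgroup ↥N).mul_mem ((SN : Subgroup ↥N).mul_mem hs ht.1) ((SN : Subgroup ↥N).inv_mem hs),
      (inferInstance : C.Normal).conj_mem t ht.2 s⟩
  have hTX : T ≤ X := le_normalizer
  have hfr : X ⊔ C = ⊤ := by
    have h := Sylow.normalizer_sup_eq_top TC
    rwa [hTC, subgroupOf_map_subtype] at h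
  haveI : (C.subgroupOf X).Normal := inferInstance
  have hXsol : Cfsg.IsPSolvable p X := by
    refine Cfsg.Lib.FusionSys.isPSolvable_ext _ X (C.subgroupOf X) rfl ?_ ?_
    · let ι : ↥(C.subgroupOf X) →* ↥C :=
        (X.subtype.comp (C.subgroupOf X).subtype).codRestrict _ fun c => c.2
      have hι : Function.Injective ι := fun a b h =>
        Subtype.ext (Subtype.ext (congrArg (fun c : ↥C => (c : ↥N)) h))
      let T' : Subgroup ↥(C.subgroupOf X) := (T.subgroupOf X).subgroupOf (C.subgroupOf X)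
      have hT'eq : T' = (TC : Subgroup ↥C).comap ι := by
        ext c
        rw [hTC]
        exact ⟨fun h => (show ((ι c : ↥C) : ↥N) ∈ (SN : Subgroup ↥N) from h.1), fun h => ⟨h, c.2⟩⟩
      haveI : (T.subgroupOf X).Normal := normal_in_normalizer
      haveI : T'.Normal := inferInstance
      have hidx : ¬ p ∣ T'.index := by
        rw [hT'eq, index_comap]
        intro h
        refine TC.not_dvd_index (h.trans ?_)
        have hle : (TC : Subgroup ↥C) ≤ ι.range := by
          intro c hc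
          rw [hTC] at hc
          have hcT : (c : ↥N) ∈ T := ⟨hc, c.2⟩
          exact ⟨⟨⟨(c : ↥N), hTX hcT⟩, c.2⟩, rfl⟩
        rw [← relIndex_top_right, ← relIndex_mul_relIndex (TC : Subgroup ↥C) ι.range ⊤ hle le_top]
        exact Dvd.intro _ rfl
      let TS : Sylow p ↥(C.subgroupOf X) :=
        (show IsPGroup p T' from hT'eq ▸ TC.2.comap_of_injective ι hι).toSylow hidx
      haveI : (TS : Subgroup ↥(C.subgroupOf X)).Normal := ‹T'.Normal›
      exact isPSolvable_of_normal_sylow TS
    · refine Cfsg.Lib.Core.HasFactorChain.of_injective Cfsg.Lib.Core.pFactor_dvdClosed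
        (QuotientGroup.map (C.subgroupOf X) C X.subtype le_rfl) ?_ (hsol H hH)
      rw [injective_iff_map_eq_one]
      intro a ha
      obtain ⟨x, rfl⟩ := QuotientGroup.mk'_surjective _ a
      exact (QuotientGroup.eq_one_iff x).2 ((QuotientGroup.eq_one_iff (x : ↥N)).1 ha)
  -- a lift of the moved element
  obtain ⟨x, hx, c, hc, hxc⟩ := mem_sup_of_normal_right.1 (show (⟨y, hy⟩ : ↥N) ∈ X ⊔ C by rw [hfr]; trivial)
  obtain ⟨k, hk⟩ := hyq
  have hπ : QuotientGroup.mk' C x = QuotientGroup.mk' C ⟨y, hy⟩ := by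
    rw [← hxc, map_mul, show QuotientGroup.mk' C c = 1 from (QuotientGroup.eq_one_iff c).2 hc, mul_one]
  obtain ⟨a, hxa, hfa⟩ := exists_q_part (q := q) (QuotientGroup.mk' C) (x := x) ⟨k, by
    rw [hπ, ← map_pow, show (⟨y, hy⟩ : ↥N) ^ q ^ k = 1 from Subtype.ext (by simpa using hk), map_one]⟩
  let SX : Sylow p X := SN.subtype hSX
  have hquiet : Quiet q (SX : Subgroup X) := by
    intro K hK hchar z hz hzn
    rw [Sylow.coe_subtype] at hK hchar
    by_contra hzc
    set ι := N.subtype.comp X.subtype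
    have hι : Function.Injective ι := N.subtype_injective.comp X.subtype_injective
    have hKp : IsPGroup p (K.map ι) := ((SN.2.comap_subtype (K := X)).to_le hK).map ι
    have hKm : Moved q (K.map ι) := by
      obtain ⟨j, hj⟩ := hz
      refine ⟨ι z, le_normalizer_map ι ⟨z, hzn, rfl⟩, ⟨j, by rw [← map_pow, hj, map_one]⟩, fun hc => hzc ?_⟩
      refine mem_centralizer_iff.2 fun b hb => hι ?_
      rw [map_mul, map_mul]
      exact mem_centralizer_iff.1 hc _ ⟨b, hb, rfl⟩
    refine hbig _ hKp hKm ?_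
    have hKS : K.map ι ≤ S := by
      rintro _ ⟨b, hb, rfl⟩
      exact ⟨b, hK hb, rfl⟩
    haveI := hchar
    let e : (SN : Subgroup ↥N).subgroupOf X ≃* S :=
      (subgroupOfEquivOfLe hSX).trans (equivMapOfInjective _ N.subtype N.subtype_injective)
    haveI hchar' : ((K.map ι).subgroupOf S).Characteristic := by
      have h' := char_comap e.symm.toMonoidHom e.symm.surjective
        (by rw [(MonoidHom.ker_eq_bot_iff e.symm.toMonoidHom).2 e.symm.injective]; infer_instance)
        (K.subgroupOf ((SN : Subgroup ↥N).subgroupOf X))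
      convert h' using 1
      ext s
      have he : ι (e.symm s : X) = (s : G) := congrArg Subtype.val (e.apply_symm_apply s)
      constructor
      · rintro ⟨b, hb, hbs⟩
        have : b = (e.symm s : X) := hι (hbs.trans he.symm)
        rw [this] at hb
        exact hb
      · intro hs
        exact ⟨_, hs, he⟩
    have := Core.normalizer_le_normalizer_map_char ((K.map ι).subgroupOf S)
    rwa [map_subgroupOf_eq_of_le hKS] at this
  have hxaX : x ^ a ∈ X := pow_mem hx a
  obtain ⟨j, hj⟩ := hxa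
  have hc := qElement_centralizes hpq h23 _ X rfl hXsol SX hquiet ⟨x ^ a, hxaX⟩
    ⟨j, Subtype.ext (by simpa using hj)⟩
  apply hyc
  have hcomm : ∀ h ∈ H, h * ((x ^ a : ↥N) : G) = ((x ^ a : ↥N) : G) * h := by
    intro h hh
    have hhN : h ∈ N := hHN hh
    have hmem : (⟨h, hhN⟩ : ↥N) ∈ (SN : Subgroup ↥N) :=
      ((Core.le_pCore (N := H.subgroupOf N) hH.comap_subtype).trans (Core.pCore_le_sylow SN)) hh
    haveI : ((H.subgroupOf N).subgroupOf X).Normal := inferInstance
    have hh' : (⟨⟨h, hhN⟩, hSX hmem⟩ : X) ∈ Cfsg.pCore p X :=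
      Core.le_pCore (N := (H.subgroupOf N).subgroupOf X) (hH.comap_subtype.comap_subtype) hh
    exact congrArg (fun w : X => ((w : ↥N) : G)) (mem_centralizer_iff.1 hc _ hh')
  have hdiff : (x ^ a)⁻¹ * ⟨y, hy⟩ ∈ C := (QuotientGroup.eq_one_iff _).1 (by
    show QuotientGroup.mk' C ((x ^ a)⁻¹ * ⟨y, hy⟩) = 1
    rw [map_mul, map_inv, hfa, hπ, inv_mul_cancel])
  have hC' : ((x ^ a : ↥N) : G)⁻¹ * y ∈ centralizer (H : Set G) := hdiff
  have := mul_mem (show ((x ^ a : ↥N) : G) ∈ centralizer (H : Set G) from mem_centralizer_iff.2 hcomm) hC'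
  rwa [mul_inv_cancel_left] at this

end Cfsg.Lib.Local.AutQ
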