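import Cfsg.Agent.Lib.Core.PSolvable
import Cfsg.Agent.Lib.Local.Sylow
import Cfsg.Agent.Lib.Thompson.Transport

/-!
# `q`-elements against characteristic subgroups of a Sylow `p`-subgroup: descent

`Quiet p q S`: every `q`-element normalizing a characteristic subgroup of `S` centralizes it.
-/

set_option autoImplicit false
set_option linter.unusedSectionVars false

namespace Cfsg.Lib.Local.AutQ

open Subgroup Cfsg.Lib

universe u

variable {p q : ℕ} [hp : Fact p.Prime] [hq : Fact q.Prime] {X : Type u} [Group X] [Finite X]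

/-- `q`-elements. -/
def IsQEl (q : ℕ) (y : X) : Prop := ∃ k : ℕ, y ^ q ^ k = 1

/-- Every `q`-element normalizing a characteristic subgroup of `S` centralizes it. -/
def Quiet (q : ℕ) (S : Subgroup X) : Prop :=
  ∀ K : Subgroup X, K ≤ S → (K.subgroupOf S).Characteristic → ∀ y : X, IsQEl q y →
    y ∈ normalizer (K : Set X) → y ∈ centralizer (K : Set X)

theorem char_comap {A B : Type*} [Group A] [Group B] (g : A →* B) (hg : Function.Surjective g)
    (hker : g.ker.Characteristic) (M : Subgroup B) [hM : M.Characteristic] : (M.comap g).Characteristic := by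
  haveI := hker
  let e := QuotientGroup.quotientKerEquivOfSurjective g hg
  refine characteristic_iff_comap_eq.2 fun φ => ?_
  let ψ : A ⧸ g.ker ≃* A ⧸ g.ker :=
    QuotientGroup.congr g.ker g.ker φ (characteristic_iff_map_eq.1 hker φ)
  let χ : B ≃* B := e.symm.trans (ψ.trans e)
  have hχ : ∀ a, χ (g a) = g (φ a) := fun a => by
    show e (ψ (e.symm (g a))) = g (φ a)
    have h1 : e (QuotientGroup.mk a) = g a := rfl
    rw [← h1, e.symm_apply_apply]
    rfl
  ext a
  show g (φ a) ∈ M ↔ g a ∈ M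
  rw [← hχ]
  exact SetLike.ext_iff.1 (characteristic_iff_comap_eq.1 hM χ) (g a)

theorem char_subgroupOf_inf {S A B : Subgroup X} (hA : (A.subgroupOf S).Characteristic)
    (hB : (B.subgroupOf S).Characteristic) : ((A ⊓ B).subgroupOf S).Characteristic := by
  refine characteristic_iff_comap_eq.2 fun φ => ?_
  show ((A ⊓ B).comap S.subtype).comap φ.toMonoidHom = (A ⊓ B).comap S.subtype
  rw [Subgroup.comap_inf, Subgroup.comap_inf]
  exact congrArg₂ (· ⊓ ·) (characteristic_iff_comap_eq.1 hA φ) (characteristic_iff_comap_eq.1 hB φ)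

theorem exists_q_part {Y : Type*} [Group Y] (f : X →* Y) {x : X} (h : ∃ k : ℕ, f x ^ q ^ k = 1) :
    ∃ a : ℕ, IsQEl q (x ^ a) ∧ f (x ^ a) = f x := by
  obtain ⟨k, hk⟩ := h
  obtain ⟨b, r, hr, hbr⟩ := Nat.exists_eq_pow_mul_and_not_dvd (orderOf_pos x).ne' q hq.out.ne_one
  obtain ⟨c, -, hc⟩ := (Nat.dvd_prime_pow hq.out).1 (orderOf_dvd_of_pow_eq_one hk)
  have hcop : r.Coprime (q ^ c) :=
    Nat.Coprime.pow_right c ((hq.out.coprime_iff_not_dvd.2 hr).symm)
  obtain ⟨a, ha0, ha1⟩ := Nat.chineseRemainder hcop 0 1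
  refine ⟨a, ⟨b, ?_⟩, ?_⟩
  · rw [← pow_mul]
    refine orderOf_dvd_iff_pow_eq_one.1 ?_
    rw [hbr, mul_comm a]
    exact Nat.mul_dvd_mul_left _ (Nat.modEq_zero_iff_dvd.1 ha0)
  · rw [map_pow, ← hc] at *
    calc f x ^ a = f x ^ 1 := pow_eq_pow_iff_modEq.2 ha1
      _ = f x := pow_one _

theorem exists_lift (S : Sylow p X) (W : Subgroup X) [W.Normal] {K' : Subgroup (X ⧸ W)}
    (hK : K' ≤ (S : Subgroup X).map (QuotientGroup.mk' W)) {y' : X ⧸ W} (hy : IsQEl q y')
    (hy' : y' ∈ normalizer (K' : Set (X ⧸ W))) :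
    ∃ y : X, IsQEl q y ∧ QuotientGroup.mk' W y = y' ∧
      y ∈ normalizer (((S : Subgroup X) ⊓ K'.comap (QuotientGroup.mk' W) : Subgroup X) : Set X) := by
  set π := QuotientGroup.mk' W with hπ
  set M := K'.comap π with hM
  set K := (S : Subgroup X) ⊓ M with hKdef
  have hWM : W ≤ M := fun w hw => by
    show π w ∈ K'
    rw [show π w = 1 from (QuotientGroup.eq_one_iff w).2 hw]
    exact one_mem _
  have hMdec : ∀ m ∈ M, ∃ k ∈ K, ∃ w ∈ W, m = k * w := by
    intro m hm
    obtain ⟨s, hs, hsm⟩ := hK hm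
    have hw : s⁻¹ * m ∈ W := (QuotientGroup.eq_one_iff _).1 (by
      show π (s⁻¹ * m) = 1
      rw [map_mul, map_inv, hsm, inv_mul_cancel])
    refine ⟨s, ⟨hs, ?_⟩, s⁻¹ * m, hw, (mul_inv_cancel_left s m).symm⟩
    show π s ∈ K'
    rw [hsm]; exact hm
  -- `K` is a Sylow subgroup of `M`
  have hKp : IsPGroup p (K.subgroupOf M) := (S.2.to_le inf_le_left).comap_subtype
  have hidx : ¬ p ∣ (K.subgroupOf M).index := by
    have hWK : W ⊓ (S : Subgroup X) ≤ K := le_inf inf_le_right (inf_le_left.trans hWM)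
    haveI : (W.subgroupOf M).Normal := inferInstance
    have htop : K.subgroupOf M ⊔ W.subgroupOf M = ⊤ := by
      rw [eq_top_iff]
      rintro ⟨m, hm⟩ -
      obtain ⟨k, hk, w, hw, rfl⟩ := hMdec m hm
      exact mul_mem_sup (show (⟨k, hk.2⟩ : M) ∈ K.subgroupOf M from hk)
        (show (⟨w, hWM hw⟩ : M) ∈ W.subgroupOf M from hw)
    have h1 : (K.subgroupOf M).index = (K.subgroupOf M).relIndex (W.subgroupOf M) := by
      set A := K.subgroupOf M with hA
      set B := W.subgroupOf M with hB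
      have e1 := A.card_mul_index
      have e2 := Core.card_mul_relIndex (le_top : B ≤ ⊤)
      have e2' : B.relIndex ⊤ = B.relIndex A := by rw [← htop, relIndex_sup_right]
      have e3 := Core.card_mul_relIndex (inf_le_left : A ⊓ B ≤ A)
      have e4 := Core.card_mul_relIndex (inf_le_right : A ⊓ B ≤ B)
      rw [inf_relIndex_left] at e3
      rw [inf_relIndex_right] at e4
      rw [e2', card_top] at e2
      refine Nat.eq_of_mul_eq_mul_left (Nat.card_pos (α := A)) ?_
      rw [e1, ← e2, ← e3, ← e4]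
      ring
    rw [h1, Subgroup.relIndex_subgroupOf hWM]
    intro hd
    refine not_dvd_relIndex_of_normal S W (hd.trans ?_)
    rw [← inf_relIndex_right K W, ← inf_relIndex_right (S : Subgroup X) W]
    refine relIndex_dvd_of_le_left _ (le_inf ?_ inf_le_right)
    rw [inf_comm]; exact hWK
  let K₀ : Sylow p M := hKp.toSylow hidx
  obtain ⟨x, rfl⟩ := QuotientGroup.mk'_surjective W y'
  have hxM : x ∈ normalizer (M : Set X) := by
    refine mem_normalizer_fintype fun m hm => ?_
    show π (x * m * x⁻¹) ∈ K'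
    rw [map_mul, map_mul, map_inv]
    exact (mem_normalizer_iff.1 hy' _).1 hm
  have hKxM : K.map (MulAut.conj x).toMonoidHom ≤ M := by
    rintro _ ⟨k, hk, rfl⟩
    exact (mem_normalizer_iff.1 hxM k).1 hk.2
  have hKxp : IsPGroup p ((K.map (MulAut.conj x).toMonoidHom).subgroupOf M) :=
    ((S.2.to_le (inf_le_left : K ≤ S)).map _).comap_subtype
  obtain ⟨T, hT⟩ := hKxp.exists_le_sylow
  obtain ⟨m, hm⟩ := MulAction.exists_smul_eq M T K₀
  obtain ⟨k, hk, w, hw, hmkw⟩ := hMdec (m : X) m.2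
  have hn : w * x ∈ normalizer (K : Set X) := by
    refine mem_normalizer_fintype fun a ha => ?_
    have haM : x * a * x⁻¹ ∈ M := hKxM ⟨a, ha, rfl⟩
    have h1 : (m : M) * ⟨x * a * x⁻¹, haM⟩ * (m : M)⁻¹ ∈ (K₀ : Subgroup M) := by
      rw [← hm, Sylow.coe_subgroup_smul]
      exact ⟨_, hT (show (⟨x * a * x⁻¹, haM⟩ : M) ∈ (K.map _).subgroupOf M from ⟨a, ha, rfl⟩), rfl⟩
    have h2 : (m : X) * (x * a * x⁻¹) * (m : X)⁻¹ ∈ K := h1
    rw [hmkw] at h2
    have h3 := (mem_normalizer_iff.1 (inv_mem (le_normalizer hk)) _).1 h2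
    have : k⁻¹ * (k * w * (x * a * x⁻¹) * (k * w)⁻¹) * k⁻¹⁻¹ = w * x * a * (w * x)⁻¹ := by group
    rwa [this] at h3
  have hπw : π (w * x) = π x := by
    rw [map_mul, show π w = 1 from (QuotientGroup.eq_one_iff w).2 hw, one_mul]
  obtain ⟨a, ha, hfa⟩ := exists_q_part (q := q) π (x := w * x) (by rw [hπw]; exact hy)
  exact ⟨(w * x) ^ a, ha, hfa.trans hπw, pow_mem hn a⟩

theorem quiet_quotient (S : Sylow p X) (h : Quiet q (S : Subgroup X)) (W : Subgroup X) [W.Normal]
    (hW : ((W ⊓ (S : Subgroup X)).subgroupOf (S : Subgroup X)).Characteristic) :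
    Quiet q ((S.mapSurjective (QuotientGroup.mk'_surjective W) : Sylow p (X ⧸ W)) : Subgroup (X ⧸ W)) := by
  intro K' hK hchar y' hy hy'
  rw [Sylow.coe_mapSurjective] at hK hchar
  set π := QuotientGroup.mk' W with hπ
  set K := (S : Subgroup X) ⊓ K'.comap π with hKdef
  have hKchar : (K.subgroupOf (S : Subgroup X)).Characteristic := by
    have hker : (π.subgroupMap (S : Subgroup X)).ker = (W ⊓ (S : Subgroup X)).subgroupOf (S : Subgroup X) := by
      ext s
      rw [MonoidHom.mem_ker, mem_subgroupOf, mem_inf, Subtype.ext_iff]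
      exact ⟨fun h' => ⟨(QuotientGroup.eq_one_iff _).1 h', s.2⟩, fun h' => (QuotientGroup.eq_one_iff _).2 h'.1⟩
    haveI := hchar
    have h' := char_comap (π.subgroupMap (S : Subgroup X)) (π.subgroupMap_surjective _) (hker ▸ hW)
      (K'.subgroupOf ((S : Subgroup X).map π))
    convert h' using 1
    ext s
    simp [mem_subgroupOf, hKdef]
  obtain ⟨y, hyq, hπy, hyn⟩ := exists_lift S W hK hy hy'
  have hc := h K inf_le_left hKchar y hyq hyn
  rw [mem_centralizer_iff]
  intro k' hk'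
  obtain ⟨s, hs, rfl⟩ := hK hk'
  rw [← hπy, ← map_mul, ← map_mul, mem_centralizer_iff.1 hc s ⟨hs, hk'⟩]

theorem quiet_subgroup (S : Sylow p X) (h : Quiet q (S : Subgroup X)) (M : Subgroup X)
    (hSM : (S : Subgroup X) ≤ M) :
    Quiet q ((S.subtype hSM : Sylow p M) : Subgroup M) := by
  intro K hK hchar y hy hyn
  rw [Sylow.coe_subtype] at hK hchar
  have hK' : K.map M.subtype ≤ (S : Subgroup X) := by
    rintro _ ⟨k, hk, rfl⟩; exact hK hk
  have hchar' : ((K.map M.subtype).subgroupOf (S : Subgroup X)).Characteristic := by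
    let g : (S : Subgroup X) →* (S : Subgroup X).subgroupOf M :=
      (subgroupOfEquivOfLe hSM).symm.toMonoidHom
    haveI := hchar
    have h' := char_comap g (subgroupOfEquivOfLe hSM).symm.surjective
      (by rw [(MonoidHom.ker_eq_bot_iff g).2 (subgroupOfEquivOfLe hSM).symm.injective]; infer_instance)
      (K.subgroupOf ((S : Subgroup X).subgroupOf M))
    convert h' using 1
    ext s
    constructor
    · rintro ⟨k, hk, he⟩
      have : k = (g s : M) := Subtype.ext he
      rw [this] at hk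
      exact hk
    · intro hs
      exact ⟨(g s : M), hs, rfl⟩
  obtain ⟨k, hk⟩ := hy
  have hc := h _ hK' hchar' (y : X) ⟨k, by rw [← SubmonoidClass.coe_pow, hk, OneMemClass.coe_one]⟩
    (le_normalizer_map M.subtype ⟨y, hyn, rfl⟩)
  refine mem_centralizer_iff.2 fun a ha => Subtype.ext ?_
  exact mem_centralizer_iff.1 hc (a : X) ⟨a, ha, rfl⟩

end Cfsg.Lib.Local.AutQ
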