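import Cfsg.Agent.Lib.Local.AutomizerQ.Descend
import Cfsg.Agent.Lib.Local.FF.Model
import Cfsg.Agent.S0617

/-!
# `q`-elements of a `p`-solvable group whose Sylow `p`-subgroup is quiet, `{p, q} ≠ {2, 3}`

Such elements centralize `O_p`.
-/

set_option autoImplicit false
set_option linter.unusedSectionVars false

namespace Cfsg.Lib.Local.AutQ

open Subgroup Cfsg.Lib

universe u

variable {p q : ℕ} [hp : Fact p.Prime] [hq : Fact q.Prime]

theorem eq_one_of_powers {X : Type u} [Group X] (hpq : p ≠ q) {x : X} {m k : ℕ} (h1 : x ^ p ^ m = 1)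
    (h2 : x ^ q ^ k = 1) : x = 1 := by
  have hc : Nat.Coprime (p ^ m) (q ^ k) := Nat.Coprime.pow _ _ ((Nat.coprime_primes hp.out hq.out).2 hpq)
  exact orderOf_eq_one_iff.1 (Nat.eq_one_of_dvd_coprimes hc (orderOf_dvd_of_pow_eq_one h1)
    (orderOf_dvd_of_pow_eq_one h2))

theorem not_dvd_iSup {M : Type*} [Group M] [Finite M] {ι : Type*} [Finite ι] (H : Subgroup M)
    (K : ι → Subgroup M) (hle : ∀ i, K i ≤ H) (hn : ∀ i, H ≤ normalizer ((K i : Subgroup M) : Set M))
    (hsup : ⨆ i, K i = H) (hdvd : ∀ i, ¬ q ∣ Nat.card (K i)) : ¬ q ∣ Nat.card H := by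
  classical
  haveI := Fintype.ofFinite ι
  haveI : ∀ i, ((K i).subgroupOf H).Normal := fun i =>
    (normal_subgroupOf_iff_le_normalizer (hle i)).2 (hn i)
  have key : ∀ s : Finset ι, ¬ q ∣ Nat.card (s.sup fun i => (K i).subgroupOf H : Subgroup H) := by
    intro s
    induction s using Finset.induction with
    | empty => rw [Finset.sup_empty, card_bot]; exact hq.out.not_dvd_one
    | insert a s ha ih =>
      rw [Finset.sup_insert, sup_comm]
      intro h
      rcases hq.out.dvd_mul.1 (h.trans (Core.card_sup_dvd_mul _ _)) with h' | h'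
      · exact ih h'
      · rw [Nat.card_congr (subgroupOfEquivOfLe (hle a)).toEquiv] at h'
        exact hdvd a h'
  have htop : (Finset.univ.sup fun i => (K i).subgroupOf H) = (⊤ : Subgroup H) := by
    rw [Finset.sup_univ_eq_iSup]
    refine map_injective H.subtype_injective ?_
    rw [Subgroup.map_iSup, ← MonoidHom.range_eq_map, range_subtype]
    conv_rhs => rw [← hsup]
    exact iSup_congr fun i => map_subgroupOf_eq_of_le (hle i)
  have := key Finset.univ
  rwa [htop, card_top] at this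

set_option maxHeartbeats 1000000 in
theorem qElement_centralizes (hpq : p ≠ q) (h23 : ¬ ((p = 2 ∧ q = 3) ∨ (p = 3 ∧ q = 2))) :
    ∀ (n : ℕ) (X : Type u) [Group X] [Finite X], Nat.card X = n → Cfsg.IsPSolvable p X →
      ∀ S : Sylow p X, Quiet q (S : Subgroup X) → ∀ y : X, IsQEl q y →
        y ∈ centralizer (Cfsg.pCore p X : Set X) := by
  intro n
  induction n using Nat.strong_induction_on with
  | _ n ih =>
  intro X _ _ hn hsolv S hS y hy
  set Q := Cfsg.pCore p X with hQdef
  have hQp : IsPGroup p Q := Core.pCore_isPGroup p X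
  have hQS : Q ≤ (S : Subgroup X) := Core.pCore_le_sylow S
  -- descent along a normal subgroup
  have step : ∀ (W : Subgroup X) [W.Normal], W ≠ ⊥ →
      ((W ⊓ (S : Subgroup X)).subgroupOf (S : Subgroup X)).Characteristic →
      ∀ y, IsQEl q y → ∀ h ∈ Q, h⁻¹ * y * h * y⁻¹ ∈ W := by
    intro W _ hW hchar y hy h hh
    set π := QuotientGroup.mk' W
    have hlt : Nat.card (X ⧸ W) < n := by
      rw [← hn]
      calc W.index < Nat.card W * W.index :=
            lt_mul_of_one_lt_left (Nat.pos_of_ne_zero W.index_ne_zero_of_finite) (one_lt_card_iff_ne_bot _ |>.2 hW)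
        _ = Nat.card X := W.card_mul_index
    obtain ⟨k, hk⟩ := hy
    have hc := ih _ hlt (X ⧸ W) rfl (Core.isPSolvable_quotient hsolv W) _ (quiet_quotient S hS W hchar)
      (π y) ⟨k, by rw [← map_pow, hk, map_one]⟩
    haveI : (Q.map π).Normal := Subgroup.Normal.map inferInstance π (QuotientGroup.mk'_surjective W)
    have hm := mem_centralizer_iff.1 hc (π h) (Core.le_pCore (hQp.map π) ⟨h, hh, rfl⟩)
    refine (QuotientGroup.eq_one_iff _).1 ?_
    show π (h⁻¹ * y * h * y⁻¹) = 1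
    rw [map_mul, map_mul, map_mul, map_inv, map_inv]
    calc (π h)⁻¹ * π y * π h * (π y)⁻¹ = (π h)⁻¹ * (π y * π h) * (π y)⁻¹ := by group
      _ = 1 := by rw [← hm]; group
  -- the `p'`-core
  by_cases hO : Cfsg.pPrimeCore p X = ⊥
  swap
  · set W := Cfsg.pPrimeCore p X
    have hWS : W ⊓ (S : Subgroup X) = ⊥ := by
      refine eq_bot_iff.2 fun x hx => ?_
      obtain ⟨k, hk⟩ := IsPGroup.iff_orderOf.1 S.2 ⟨x, hx.2⟩
      rw [Subgroup.orderOf_mk] at hk
      have h1 : orderOf x ∣ Nat.card W := Subgroup.orderOf_dvd_natCard W hx.1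
      rw [hk] at h1
      exact mem_bot.2 (orderOf_eq_one_iff.1 (hk.trans (Nat.eq_one_of_dvd_coprimes
        ((Core.pPrimeCore_coprime p X).symm.pow_left k) dvd_rfl h1)))
    have h1 := step W hO (by rw [hWS, bot_subgroupOf]; infer_instance) y hy
    refine mem_centralizer_iff.2 fun h hh => ?_
    have hd : h⁻¹ * y * h * y⁻¹ ∈ Q := by
      rw [mul_assoc, mul_assoc, ← mul_assoc y]
      exact mul_mem (inv_mem hh) ((inferInstance : Q.Normal).conj_mem h hh y)
    have h2 : h⁻¹ * y * h * y⁻¹ ∈ W ⊓ (S : Subgroup X) := ⟨h1 h hh, hQS hd⟩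
    rw [hWS, mem_bot] at h2
    calc h * y = h * (h⁻¹ * y * h * y⁻¹) * y := by rw [h2, mul_one]
      _ = y * h := by group
  have hCQ : centralizer (Q : Set X) ≤ Q := Core.centralizer_pCore_le_of_isPSolvable hsolv hO
  -- a central `p`-subgroup
  have central : ∀ W : Subgroup X, W ≤ (S : Subgroup X) → W ≤ center X → W ≠ ⊥ →
      (W.subgroupOf (S : Subgroup X)).Characteristic → y ∈ centralizer (Q : Set X) := by
    intro W hWS hWc hW hchar
    haveI : W.Normal := Subgroup.Normal.mk fun w hw g => by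
      rw [mem_center_iff.1 (hWc hw) g, mul_inv_cancel_right]; exact hw
    have h1 := step W hW (by rw [inf_eq_left.2 hWS]; exact hchar) y hy
    refine mem_centralizer_iff.2 fun h hh => ?_
    set w := h⁻¹ * y * h * y⁻¹ with hw
    have hwW := h1 h hh
    obtain ⟨m, hm⟩ := S.2 ⟨w, hWS hwW⟩
    obtain ⟨k, hk⟩ := hy
    have hc : Commute w y := ((mem_center_iff.1 (hWc hwW)) y).symm
    have hwy : w * y = h⁻¹ * y * h⁻¹⁻¹ := by rw [hw]; group
    have hwk : w ^ q ^ k = 1 := by
      have h3 : (w * y) ^ q ^ k = 1 := by rw [hwy, conj_pow, hk, mul_one, mul_inv_cancel]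
      rwa [hc.mul_pow, hk, mul_one] at h3
    have hw1 : w = 1 := eq_one_of_powers hpq (congrArg Subtype.val hm) hwk
    rw [hw1, one_mul] at hwy
    calc h * y = h * (h⁻¹ * y * h⁻¹⁻¹) := by rw [← hwy]
      _ = y * h := by group
  have hone : ∀ x : X, IsQEl q x → x ∈ centralizer (Q : Set X) → x = 1 := by
    rintro x ⟨k, hk⟩ hx
    obtain ⟨m, hm⟩ := hQp ⟨x, hCQ hx⟩
    exact eq_one_of_powers hpq (congrArg Subtype.val hm) hk
  -- proper subgroups containing `S` have no `q`-elements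
  have free : ∀ M : Subgroup X, (S : Subgroup X) ≤ M → M ≠ ⊤ → ∀ x ∈ M, IsQEl q x → x = 1 := by
    intro M hSM hM x hx hxq
    have hlt : Nat.card M < n := by
      rw [← hn]
      exact lt_of_le_of_ne (card_le_card_group M) fun h => hM ((card_eq_iff_eq_top M).1 h)
    obtain ⟨k, hk⟩ := hxq
    have hc := ih _ hlt M rfl (Core.isPSolvable_subgroup hsolv M) _ (quiet_subgroup S hS M hSM) ⟨x, hx⟩
      ⟨k, Subtype.ext (by simpa using hk)⟩
    refine hone x ⟨k, hk⟩ (mem_centralizer_iff.2 fun h hh => ?_)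
    haveI : (Q.subgroupOf M).Normal := inferInstance
    exact congrArg Subtype.val (mem_centralizer_iff.1 hc ⟨h, hSM (hQS hh)⟩
      (Core.le_pCore (p := p) (hQp.comap_subtype) (show (⟨h, hSM (hQS hh)⟩ : M) ∈ Q.subgroupOf M from hh)))
  by_cases hy1 : y = 1
  · rw [hy1]; exact one_mem _
  have hSbot : (S : Subgroup X) ≠ ⊥ := fun h => hy1 (by
    have hQ1 : Q = ⊥ := le_bot_iff.1 (h ▸ hQS)
    have hyQ : y ∈ Q := hCQ (mem_centralizer_iff.2 fun a ha => by
      rw [SetLike.mem_coe, hQ1, mem_bot] at ha; rw [ha, one_mul, mul_one])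
    rwa [hQ1, mem_bot] at hyQ)
  set Zs := Thompson.zenter (S : Subgroup X) with hZs
  have hZschar : (Zs.subgroupOf (S : Subgroup X)).Characteristic := by
    have h : Zs.subgroupOf (S : Subgroup X) = center (S : Subgroup X) := by
      show ((S : Subgroup X) ⊓ centralizer ((S : Subgroup X) : Set X)).subgroupOf (S : Subgroup X) = _
      rw [← Core.center_map_eq_inf_centralizer, subgroupOf, comap_map_eq_self_of_injective (S : Subgroup X).subtype_injective]
    rw [h]; infer_instance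
  -- `Ω₁` of the centre
  let Z : Subgroup X :=
    { carrier := {x | x ∈ Zs ∧ x ^ p = 1}
      one_mem' := ⟨one_mem _, one_pow _⟩
      mul_mem' := fun {a b} ha hb => ⟨mul_mem ha.1 hb.1, by
        rw [(show Commute a b from (mem_centralizer_iff.1 ha.1.2 b hb.1.1).symm).mul_pow, ha.2, hb.2, one_mul]⟩
      inv_mem' := fun {a} ha => ⟨inv_mem ha.1, by rw [inv_pow, ha.2, inv_one]⟩ }
  have hZS : Z ≤ (S : Subgroup X) := fun x hx => hx.1.1
  have hZchar : (Z.subgroupOf (S : Subgroup X)).Characteristic := by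
    refine characteristic_iff_comap_eq.2 fun φ => ?_
    ext s
    show (((φ s : (S : Subgroup X)) : X) ∈ Zs ∧ ((φ s : (S : Subgroup X)) : X) ^ p = 1) ↔
      ((s : X) ∈ Zs ∧ (s : X) ^ p = 1)
    refine and_congr (SetLike.ext_iff.1 (characteristic_iff_comap_eq.1 hZschar φ) s) ?_
    rw [← SubmonoidClass.coe_pow, ← SubmonoidClass.coe_pow, ← OneMemClass.coe_one (S : Subgroup X),
      Subtype.coe_inj, Subtype.coe_inj, ← map_pow, MulEquiv.map_eq_one_iff]
  have hZne : Z ≠ ⊥ := by
    have hne := Thompson.zenter_ne_bot S.2 hSbot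
    obtain ⟨k, hk⟩ := IsPGroup.iff_card.1 (S.2.to_le (inf_le_left : Zs ≤ (S : Subgroup X)))
    have hk0 : k ≠ 0 := fun h0 => hne (card_eq_one.1 (by rw [hk, h0, pow_zero]))
    obtain ⟨z, hz⟩ := exists_prime_orderOf_dvd_card' (G := Zs) p (hk ▸ dvd_pow_self p hk0)
    intro h
    have hzZ : (z : X) ∈ Z := ⟨z.2, by rw [← hz, ← Subgroup.orderOf_coe, pow_orderOf_eq_one]⟩
    rw [h, mem_bot] at hzZ
    rw [← Subgroup.orderOf_coe, hzZ, orderOf_one] at hz
    exact hp.out.ne_one hz.symm
  set CZ := centralizer (Z : Set X) with hCZ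
  have hSCZ : (S : Subgroup X) ≤ CZ := fun s hs => mem_centralizer_iff.2 fun z hz =>
    (mem_centralizer_iff.1 hz.1.2 s hs).symm
  by_cases hCtop : CZ = ⊤
  · exact central Z hZS (fun z hz => mem_center_iff.2 fun g =>
      (mem_centralizer_iff.1 (show g ∈ CZ by rw [hCtop]; trivial) z hz).symm) hZne hZchar
  -- the Thompson subgroup
  set J := Cfsg.thompsonSubgroupOf p (S : Subgroup X) with hJ
  have hJS : J ≤ (S : Subgroup X) := Thompson.thompsonSubgroupOf_le _
  have hJchar : (J.subgroupOf (S : Subgroup X)).Characteristic := by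
    rw [hJ, Cfsg.thompsonSubgroupOf, subgroupOf,
      comap_map_eq_self_of_injective (S : Subgroup X).subtype_injective]
    exact characteristic_iff_map_le.mpr fun e => Thompson.map_thompson_le e
  by_cases hJtop : normalizer (J : Set X) = ⊤
  · haveI : J.Normal := normalizer_eq_top_iff.1 hJtop
    set L := centralizer (J : Set X) with hL
    have hqL : ∀ x, IsQEl q x → x ∈ L := fun x hx =>
      hS J hJS hJchar x hx (by rw [hJtop]; trivial)
    by_cases hLS : L ⊔ (S : Subgroup X) = ⊤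
    swap
    · exact absurd (free _ le_sup_right hLS y (le_sup_left (b := (S : Subgroup X)) (hqL y hy)) hy) hy1
    have hJne : Cfsg.thompsonSubgroup p (S : Subgroup X) ≠ ⊥ := fun h => by
      have := Thompson.thompsonSubgroupOf_ne_bot S.2 hSbot
      rw [Cfsg.thompsonSubgroupOf, h, Subgroup.map_bot] at this
      exact this rfl
    haveI : (Cfsg.thompsonSubgroup p (S : Subgroup X)).Characteristic :=
      characteristic_iff_map_le.mpr fun e => Thompson.map_thompson_le e
    obtain ⟨z, hzJ, hzc, hzo⟩ := Cfsg.Lib.PGroup.exists_mem_center_orderOf_eq S.2 hJne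
    refine central (J ⊓ Zs) (inf_le_left.trans hJS) ?_ ?_ (char_subgroupOf_inf hJchar hZschar)
    · intro w hw
      have hle : L ⊔ (S : Subgroup X) ≤ centralizer ({w} : Set X) := sup_le
        (fun l hl => mem_centralizer_singleton_iff.2 (mem_centralizer_iff.1 hl w hw.1).symm)
        (fun s hs => mem_centralizer_singleton_iff.2 (mem_centralizer_iff.1 hw.2.2 s hs))
      rw [hLS, top_le_iff] at hle
      exact mem_center_iff.2 fun g => mem_centralizer_singleton_iff.1 (hle ▸ mem_top g)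
    · intro h
      have hzmem : (z : X) ∈ J ⊓ Zs := ⟨⟨z, hzJ, rfl⟩, z.2, mem_centralizer_iff.2 fun s hs =>
        congrArg Subtype.val (mem_center_iff.1 hzc ⟨s, hs⟩)⟩
      rw [h, mem_bot] at hzmem
      rw [← Subgroup.orderOf_coe, hzmem, orderOf_one] at hzo
      exact hp.out.ne_one hzo.symm
  -- factorization
  exfalso
  refine hy1 ?_
  by_contra hne
  have hqdvd : q ∣ Nat.card X := by
    obtain ⟨k, hk⟩ := hy
    obtain ⟨c, -, hc⟩ := (Nat.dvd_prime_pow hq.out).1 (orderOf_dvd_of_pow_eq_one hk)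
    have hc0 : c ≠ 0 := fun h0 => hne (orderOf_eq_one_iff.1 (by rw [hc, h0, pow_zero]))
    exact (dvd_pow_self q hc0).trans (hc ▸ orderOf_dvd_natCard y)
  have nodvd : ∀ M : Subgroup X, (S : Subgroup X) ≤ M → M ≠ ⊤ → ¬ q ∣ Nat.card M := by
    intro M h1 h2 h3
    obtain ⟨x, hx⟩ := exists_prime_orderOf_dvd_card' (G := M) q h3
    have := free M h1 h2 x x.2 ⟨1, by rw [pow_one, ← hx, ← Subgroup.orderOf_coe, pow_orderOf_eq_one]⟩
    rw [← Subgroup.orderOf_coe, this, orderOf_one] at hx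
    exact hq.out.ne_one hx.symm
  -- the module
  haveI : (centralizer (Q : Set X)).Normal := inferInstance
  let ΩQ : Subgroup X :=
    { carrier := {x | x ∈ Q ⊓ centralizer (Q : Set X) ∧ x ^ p = 1}
      one_mem' := ⟨one_mem _, one_pow _⟩
      mul_mem' := fun {a b} ha hb => ⟨mul_mem ha.1 hb.1, by
        rw [(show Commute a b from (mem_centralizer_iff.1 ha.1.2 b hb.1.1).symm).mul_pow, ha.2, hb.2, one_mul]⟩
      inv_mem' := fun {a} ha => ⟨inv_mem ha.1, by rw [inv_pow, ha.2, inv_one]⟩ }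
  haveI hΩn : ΩQ.Normal := ⟨fun v hv g => ⟨(inferInstance : (Q ⊓ centralizer (Q : Set X)).Normal).conj_mem v hv.1 g, by
    rw [conj_pow, hv.2, mul_one, mul_inv_cancel]⟩⟩
  set V := normalClosure (Z : Set X) with hV
  have hVΩ : V ≤ ΩQ := normalClosure_le_normal fun z hz => by
    have hzC : z ∈ centralizer (Q : Set X) :=
      mem_centralizer_iff.2 fun h hh => mem_centralizer_iff.1 hz.1.2 h (hQS hh)
    exact ⟨⟨hCQ hzC, hzC⟩, hz.2⟩
  have hVea : Cfsg.IsElementaryAbelian p V :=
    ⟨⟨⟨fun a b => Subtype.ext (mem_centralizer_iff.1 (hVΩ b.2).1.2 a (hVΩ a.2).1.1)⟩⟩,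
      fun a ha => (hVΩ ha).2⟩
  set D := centralizer (V : Set X) with hD
  have hDCZ : D ≤ CZ := centralizer_le Subgroup.le_normalClosure
  have hOD : Cfsg.pCore p (X ⧸ D) = ⊥ := by
    set P := Cfsg.pCore p (X ⧸ D)
    set N := P.comap (QuotientGroup.mk' D) with hN
    haveI : N.Normal := inferInstance
    have hpow : ∀ x ∈ N, ∃ k : ℕ, x ^ p ^ k ∈ D := fun x hx => by
      obtain ⟨k, hk⟩ := Core.pCore_isPGroup p _ ⟨_, hx⟩
      refine ⟨k, (QuotientGroup.eq_one_iff _).1 ?_⟩
      exact congrArg Subtype.val hk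
    have h1 : N ≤ CZ := (le_inf_sup_of_pow_mem S hpow).trans (sup_le (inf_le_left.trans hSCZ) hDCZ)
    have h2 : N ≤ D := by
      haveI : (centralizer (N : Set X)).Normal := inferInstance
      rw [hD, le_centralizer_iff]
      exact normalClosure_le_normal (le_centralizer_iff.1 h1)
    rw [eq_bot_iff]
    intro c hc
    obtain ⟨x, rfl⟩ := QuotientGroup.mk'_surjective _ c
    exact mem_bot.2 ((QuotientGroup.eq_one_iff _).2 (h2 hc))
  haveI hTn : (Cfsg.thompsonSubgroup p X).Characteristic :=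
    characteristic_iff_map_le.mpr fun e => Thompson.map_thompson_le e
  set TX := Cfsg.thompsonSubgroup p X with hTX
  set f := FF.toModel V with hf
  set H := TX.map f with hH
  have hs := FF.setup_model V hsolv hVea hOD TX
  have hqH : ¬ q ∣ Nat.card H := by
    by_cases hH1 : H = ⊥
    · rw [hH1, card_bot]; exact hq.out.not_dvd_one
    obtain ⟨hp23, hE, -, hsup, -⟩ := Cfsg.Agent.S0617.result (FF.modV V) H hs.hV hs.hHV hs.hf hs.hQ
      (FF.thompson_map_eq_iSup V hVea) hH1
    refine not_dvd_iSup H _ (fun i => ?_) (fun i => (hE i).1) hsup fun i => ?_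
    · exact le_of_le_of_eq (le_iSup_of_le i le_rfl) hsup
    obtain ⟨e⟩ := (hE i).2.1
    rw [Nat.card_congr e.toEquiv, Linear.Two.card_SL_two, ZMod.card]
    intro h
    have h3 : ∀ N : ℕ, q ∣ N → N = 2 * 3 ∨ N = 3 * 2 ^ 3 → q = 2 ∨ q = 3 := by
      intro N hN hc
      rcases hc with rfl | rfl <;> rcases hq.out.dvd_mul.1 hN with h' | h'
      · exact Or.inl ((Nat.prime_dvd_prime_iff_eq hq.out Nat.prime_two).1 h')
      · exact Or.inr ((Nat.prime_dvd_prime_iff_eq hq.out Nat.prime_three).1 h')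
      · exact Or.inr ((Nat.prime_dvd_prime_iff_eq hq.out Nat.prime_three).1 h')
      · exact Or.inl ((Nat.prime_dvd_prime_iff_eq hq.out Nat.prime_two).1 (hq.out.dvd_of_dvd_pow h'))
    rcases hp23 with rfl | rfl
    · rcases h3 _ h (Or.inl (by norm_num)) with rfl | rfl
      · exact hpq rfl
      · exact h23 (Or.inl ⟨rfl, rfl⟩)
    · rcases h3 _ h (Or.inr (by norm_num)) with rfl | rfl
      · exact h23 (Or.inr ⟨rfl, rfl⟩)
      · exact hpq rfl
  set Y := TX ⊔ D with hY
  have hqD : ¬ q ∣ Nat.card D := fun h => nodvd CZ hSCZ hCtop (h.trans (card_dvd_of_le hDCZ))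
  have hqY : ¬ q ∣ Nat.card Y := by
    intro h
    have h2 := (f.comp Y.subtype).ker.card_mul_index
    rw [index_ker, MonoidHom.range_comp, range_subtype] at h2
    have hYf : Y.map f = H := by
      rw [hY, Subgroup.map_sup, hH, (Subgroup.map_eq_bot_iff D).2 (FF.toModel_ker V).ge, sup_bot_eq]
    rw [hYf] at h2
    rw [← h2] at h
    rcases hq.out.dvd_mul.1 h with h' | h'
    · refine hqD (h'.trans ?_)
      have : (f.comp Y.subtype).ker = D.subgroupOf Y := by
        rw [← MonoidHom.comap_ker, hf, FF.toModel_ker]; rfl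
      rw [this, Nat.card_congr (subgroupOfEquivOfLe (le_sup_right : D ≤ Y)).toEquiv]
    · exact hqH h'
  obtain ⟨A₀, hA₀, hA₀S⟩ := Thompson.exists_maxEA_le_sylow S
  set T := (S : Subgroup X) ⊓ Y with hT
  have hmaxY : ∀ A ∈ Cfsg.maxElementaryAbelianSubgroups p X, A ≤ Y := fun A hA =>
    (le_sSup hA).trans le_sup_left
  have hJT : J = Cfsg.thompsonSubgroupOf p T := by
    rw [hJ, Thompson.thompsonSubgroupOf_eq _ ⟨A₀, hA₀, hA₀S⟩,
      Thompson.thompsonSubgroupOf_eq T ⟨A₀, hA₀, le_inf hA₀S (hmaxY A₀ hA₀)⟩]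
    congr 1
    ext A
    exact ⟨fun h => ⟨h.1, le_inf h.2 (hmaxY A h.1)⟩, fun h => ⟨h.1, h.2.trans inf_le_left⟩⟩
  haveI : Y.Normal := inferInstance
  obtain ⟨T₁, hT₁⟩ := exists_sylow_inf S Y
  have hfr := Sylow.normalizer_sup_eq_top T₁
  rw [hT₁, subgroupOf_map_subtype] at hfr
  have hNT : normalizer (T : Set X) ≤ normalizer (J : Set X) := by
    rw [hJT]; exact Thompson.normalizer_le_normalizer_thompsonSubgroupOf T
  have htop : normalizer (J : Set X) ⊔ Y = ⊤ :=
    top_le_iff.1 (hfr.ge.trans (sup_le (hNT.trans le_sup_left) le_sup_right))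
  have hdvd := Core.card_sup_dvd_mul (normalizer (J : Set X)) Y
  rw [htop, card_top] at hdvd
  rcases hq.out.dvd_mul.1 (hqdvd.trans hdvd) with h | h
  · exact nodvd _ ((le_normalizer (H := (S : Subgroup X))).trans
      (Thompson.normalizer_le_normalizer_thompsonSubgroupOf _)) hJtop h
  · exact hqY h

end Cfsg.Lib.Local.AutQ
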